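import Groth.Agent.SubSheafExt.Noetherian

/-!
# Finite type subsheaves through given sections

* `exists_gen_of_section_locallyNoetherian`, `exists_gen_of_section_qcqs`: a `GenOn F M ⊤` with a given
  section in it;
* `GenOn.pointwise_sup`: the sum of two finitely generated stalkwise submodules.
-/

universe u

open AlgebraicGeometry CategoryTheory TopologicalSpace

namespace Groth.Agent.SubSheafExt

variable {X : Scheme.{u}} {F : X.Modules}

lemma genOn_singleton {U : X.Opens} (hU : IsAffineOpen U) (s : Γ(F, U)) {M : Sub F}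
    (h : ∀ (y : X) (hy : y ∈ U), M y = germSpan y hy {s}) : GenOn M U :=
  fun x hx => ⟨U, hx, hU, le_rfl, {s}, fun y hy => by rw [Finset.coe_singleton]; exact h y hy⟩

lemma exists_gen_of_section_aux [F.IsQuasicoherent] {L : Type u} [LinearOrder L] [WellFoundedLT L]
    (V : L → X.Opens) (hV : ∀ l, IsAffineOpen (V l)) {U : X.Opens} (hU : IsAffineOpen U)
    (hcov : U ⊔ ⨆ l, V l = ⊤)
    (hc : ∀ l, IsCompact (((U ⊔ ⨆ m ∈ Set.Iio l, V m) ⊓ V l : X.Opens) : Set X)) (s : Γ(F, U)) :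
    ∃ M : Sub F, GenOn M ⊤ ∧ ∀ (y : X) (hy : y ∈ U), F.presheaf.germ U y hy s ∈ M y := by
  classical
  let M₀ : Sub F := fun y => if hy : y ∈ U then germSpan y hy {s} else ⊥
  obtain ⟨M, hM, hM₀⟩ := exists_extend_wellOrdered V hV U hcov hc M₀
    (genOn_singleton hU s fun y hy => by simp only [M₀, dif_pos hy])
  refine ⟨M, hM, fun y hy => ?_⟩
  rw [hM₀ y hy]
  simp only [M₀, dif_pos hy]
  exact Submodule.subset_span ⟨s, rfl, rfl⟩

lemma exists_gen_of_section_locallyNoetherian [F.IsQuasicoherent]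
    (hX : ∀ x : X, ∃ U : X.Opens, x ∈ U ∧ NoetherianSpace (U : Set X)) {U : X.Opens} (hU : IsAffineOpen U)
    (s : Γ(F, U)) :
    ∃ M : Sub F, GenOn M ⊤ ∧ ∀ (y : X) (hy : y ∈ U), F.presheaf.germ U y hy s ∈ M y := by
  classical
  obtain ⟨o, ho⟩ := exists_wellFoundedLT (α := X.affineOpens)
  refine exists_gen_of_section_aux (fun A : X.affineOpens => A.1) (fun A => A.2) hU
    (eq_top_iff.mpr fun x _ => ?_) (fun A => ?_) s
  · obtain ⟨A, hA⟩ := Groth.Agent.QCohLib.exists_affine_mem x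
    exact Or.inr (Opens.mem_iSup.mpr ⟨A, hA⟩)
  · exact isCompact_of_locally_noetherian hX A.2.isCompact Set.inter_subset_right

lemma exists_gen_of_section_qcqs [F.IsQuasicoherent] [CompactSpace X] [QuasiSeparatedSpace X] {U : X.Opens}
    (hU : IsAffineOpen U) (s : Γ(F, U)) :
    ∃ M : Sub F, GenOn M ⊤ ∧ ∀ (y : X) (hy : y ∈ U), F.presheaf.germ U y hy s ∈ M y := by
  obtain ⟨κ, hκ, W, hW, -, hsup⟩ :=
    Groth.Agent.QCohLib.exists_finite_affine_cover (X := X) (U := ⊤) CompactSpace.isCompact_univ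
  let e := Fintype.equivFin κ
  refine exists_gen_of_section_aux (L := ULift.{u} (Fin (Fintype.card κ))) (fun n => W (e.symm n.down))
    (fun n => hW _) hU (eq_top_iff.mpr fun x _ => ?_) (fun n => ?_) s
  · obtain ⟨a, ha⟩ := Opens.mem_iSup.mp (hsup (Opens.mem_top x))
    exact Or.inr (Opens.mem_iSup.mpr ⟨⟨e a⟩, by rwa [e.symm_apply_apply]⟩)
  · have hcpt : IsCompact ((U ⊔ ⨆ m ∈ Set.Iio n, W (e.symm m.down) : X.Opens) : Set X) := by
      rw [Opens.coe_sup, Opens.coe_iSup]
      simp only [Opens.coe_iSup]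
      exact hU.isCompact.union ((Set.toFinite (Set.Iio n)).isCompact_biUnion fun m _ => (hW _).isCompact)
    exact QuasiSeparatedSpace.inter_isCompact _ _ (U ⊔ ⨆ m ∈ Set.Iio n, W (e.symm m.down) : X.Opens).2 hcpt
      (W (e.symm n.down)).2 (hW _).isCompact

lemma GenOn.pointwise_sup {M M' : Sub F} (h : GenOn M ⊤) (h' : GenOn M' ⊤) :
    GenOn (fun y => M y ⊔ M' y) ⊤ := by
  classical
  intro x hx
  obtain ⟨W, hxW, hW, -, T, hT⟩ := h x hx
  obtain ⟨W', hxW', -, -, T', hT'⟩ := h' x hx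
  obtain ⟨A, hA, hxA, hAle⟩ := exists_isAffineOpen_mem_and_subset (U := W ⊓ W') (x := x) ⟨hxW, hxW'⟩
  refine ⟨A, hxA, hA, le_top, T.image (F.presheaf.map (homOfLE fun z hz => (hAle hz).1).op) ∪
    T'.image (F.presheaf.map (homOfLE fun z hz => (hAle hz).2).op), fun y hy => ?_⟩
  rw [Finset.coe_union, Finset.coe_image, Finset.coe_image]
  change M y ⊔ M' y = _
  rw [hT y (hAle hy).1, hT' y (hAle hy).2]
  unfold germSpan
  rw [Set.image_union, Submodule.span_union]
  exact congrArg₂ (· ⊔ ·) (germSpan_res (fun z hz => (hAle hz).1) y hy _).symm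
    (germSpan_res (fun z hz => (hAle hz).2) y hy _).symm

lemma genOn_bot : GenOn (fun y => (⊥ : Submodule (X.presheaf.stalk y) (F.presheaf.stalk y))) ⊤ := by
  intro x _
  obtain ⟨A, hA⟩ := Groth.Agent.QCohLib.exists_affine_mem x
  exact ⟨A.1, hA, A.2, le_top, ∅, fun y hy => by simp [germSpan]⟩

lemma genOn_finset_sup {ι : Type*} (S : Finset ι) (M : ι → Sub F) (h : ∀ i ∈ S, GenOn (M i) ⊤) :
    GenOn (fun y => S.sup fun i => M i y) ⊤ := by
  classical
  induction S using Finset.induction with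
  | empty => simpa using genOn_bot
  | insert a S ha ih =>
    simp only [Finset.sup_insert]
    exact (h a (Finset.mem_insert_self _ _)).pointwise_sup (ih fun i hi => h i (Finset.mem_insert_of_mem hi))

end Groth.Agent.SubSheafExt
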