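import Groth.Agent.SubSheafExt.Extend
import Mathlib.SetTheory.Cardinal.Order
import Mathlib.Topology.NoetherianSpace

/-! Extension of finite type subsheaves when the space is locally Noetherian, or qcqs. -/

universe u

open AlgebraicGeometry CategoryTheory TopologicalSpace

namespace Groth.Agent.SubSheafExt

variable {X : Scheme.{u}}

lemma isCompact_of_locally_noetherian
    (hX : ∀ x : X, ∃ U : X.Opens, x ∈ U ∧ NoetherianSpace (U : Set X))
    {K : Set X} (hK : IsCompact K) {S : Set X} (hSK : S ⊆ K) : IsCompact S := by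
  choose W hxW hW using hX
  obtain ⟨t, ht⟩ := hK.elim_finite_subcover (fun x : X => (W x : Set X)) (fun x => (W x).2)
    (fun x _ => Set.mem_iUnion.mpr ⟨x, hxW x⟩)
  have h1 : ∀ x, IsCompact (S ∩ (W x : Set X)) := fun x => by
    have := hW x
    have := (NoetherianSpace.isCompact (Subtype.val ⁻¹' S : Set ↑(W x : Set X))).image continuous_subtype_val
    rwa [Subtype.image_preimage_coe, Set.inter_comm] at this
  have : S = ⋃ x ∈ t, S ∩ (W x : Set X) := by
    rw [← Set.inter_iUnion₂]
    exact (Set.inter_eq_left.mpr (hSK.trans ht)).symm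
  rw [this]
  exact t.finite_toSet.isCompact_biUnion fun x _ => h1 x

/-- Extension when the underlying space is locally Noetherian. -/
theorem exists_subsheaf_extension_locallyNoetherian
    (hX : ∀ x : X, ∃ U : X.Opens, x ∈ U ∧ NoetherianSpace (U : Set X)) {F : X.Modules} [F.IsQuasicoherent]
    (U : X.Opens) {G : (U : Scheme.{u}).Modules} [G.IsQuasicoherent] (hG : G.IsFiniteType)
    (i : G ⟶ F.restrict U.ι) [Mono i] :
    ∃ (G' : X.Modules) (i' : G' ⟶ F) (e : G'.restrict U.ι ≅ G), Mono i' ∧ G'.IsQuasicoherent ∧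
      G'.IsFiniteType ∧ e.hom ≫ i = (Scheme.Modules.restrictFunctor U.ι).map i' := by
  classical
  obtain ⟨o, ho⟩ := exists_wellFoundedLT (α := X.affineOpens)
  refine exists_subsheaf_extension (fun A : X.affineOpens => A.1) (fun A => A.2) U
    (eq_top_iff.mpr fun x _ => ?_) (fun A => ?_) hG i
  · obtain ⟨A, hA⟩ := Groth.Agent.QCohLib.exists_affine_mem x
    exact Or.inr (Opens.mem_iSup.mpr ⟨A, hA⟩)
  · exact isCompact_of_locally_noetherian hX A.2.isCompact Set.inter_subset_right

/-- Extension on a quasi-compact quasi-separated scheme. -/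
theorem exists_subsheaf_extension_qcqs [CompactSpace X] [QuasiSeparatedSpace X] {F : X.Modules}
    [F.IsQuasicoherent] (U : X.Opens) (hU : IsCompact (U : Set X)) {G : (U : Scheme.{u}).Modules}
    [G.IsQuasicoherent] (hG : G.IsFiniteType) (i : G ⟶ F.restrict U.ι) [Mono i] :
    ∃ (G' : X.Modules) (i' : G' ⟶ F) (e : G'.restrict U.ι ≅ G), Mono i' ∧ G'.IsQuasicoherent ∧
      G'.IsFiniteType ∧ e.hom ≫ i = (Scheme.Modules.restrictFunctor U.ι).map i' := by
  obtain ⟨κ, hκ, W, hW, -, hsup⟩ :=
    Groth.Agent.QCohLib.exists_finite_affine_cover (X := X) (U := ⊤) CompactSpace.isCompact_univ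
  let e := Fintype.equivFin κ
  refine exists_subsheaf_extension (L := Fin (Fintype.card κ)) (fun n => W (e.symm n)) (fun n => hW _) U
    (eq_top_iff.mpr fun x _ => ?_) (fun n => ?_) hG i
  · obtain ⟨a, ha⟩ := Opens.mem_iSup.mp (hsup (Opens.mem_top x))
    exact Or.inr (Opens.mem_iSup.mpr ⟨e a, by rwa [e.symm_apply_apply]⟩)
  · have hcpt : IsCompact ((U ⊔ ⨆ m ∈ Set.Iio n, W (e.symm m) : X.Opens) : Set X) := by
      rw [Opens.coe_sup, Opens.coe_iSup]
      simp only [Opens.coe_iSup]
      exact hU.union ((Set.toFinite (Set.Iio n)).isCompact_biUnion fun m _ => (hW _).isCompact)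
    exact QuasiSeparatedSpace.inter_isCompact _ _ (U ⊔ ⨆ m ∈ Set.Iio n, W (e.symm m) : X.Opens).2 hcpt
      (W (e.symm n)).2 (hW _).isCompact

end Groth.Agent.SubSheafExt
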