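import Groth.Agent.SubSheafExt.Stalks
import Groth.Agent.QCohLib.FiniteType
import Groth.Agent.InvBasic.OfBasis
import Mathlib.Algebra.Category.ModuleCat.Presheaf.Submodule
import Mathlib.Order.Zorn

/-!
# Extending quasi-coherent subsheaves of finite type

* `toModule F M`: the subsheaf of sections with all germs in `M`; `isQuasicoherent_toModule`,
  `isFiniteType_toModule` when `GenOn F M ⊤`;
* `exists_extend_wellOrdered`: transfinite extension along affine opens;
* `exists_subsheaf_extension`: the packaged statement for a mono `G ⟶ F|U`.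
-/

set_option linter.style.haveILetI false

universe u v

open AlgebraicGeometry CategoryTheory TopologicalSpace Opposite

namespace Groth.Agent.SubSheafExt

variable {X : Scheme.{u}} (F : X.Modules)

/-- Sections with germs in `M`. -/
noncomputable def sectSub (M : Sub F) (W : X.Opens) : Submodule Γ(X, W) Γ(F, W) where
  carrier := {σ | ∀ (y : X) (hy : y ∈ W), F.presheaf.germ W y hy σ ∈ M y}
  add_mem' ha hb y hy := by rw [map_add]; exact add_mem (ha y hy) (hb y hy)
  zero_mem' y hy := by rw [map_zero]; exact zero_mem _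
  smul_mem' r σ hσ y hy := by rw [germ_smul]; exact Submodule.smul_mem _ _ (hσ y hy)

/-- The sub-presheaf of modules. -/
noncomputable def presheafSub (M : Sub F) : F.val.Submodule where
  obj W := sectSub F M W.unop
  map f σ hσ y hy :=
    Eq.subst (motive := (· ∈ M y))
      (TopCat.Presheaf.germ_res_apply F.presheaf (homOfLE f.unop.le) y hy σ).symm (hσ y (f.unop.le hy))

lemma isSheaf_presheafSub (M : Sub F) :
    Presheaf.IsSheaf (Opens.grothendieckTopology X) (presheafSub F M).toPresheafOfModules.presheaf := by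
  let S : TopCat.Sheaf AddCommGrpCat.{u} X := ⟨F.presheaf, F.isSheaf⟩
  change TopCat.Presheaf.IsSheaf (presheafSub F M).toPresheafOfModules.presheaf
  rw [TopCat.Presheaf.isSheaf_iff_isSheafUniqueGluing]
  intro ι V sf hsf
  have hc : TopCat.Presheaf.IsCompatible S.obj V (fun i => ((sf i).1 : Γ(F, V i))) := fun i j =>
    congrArg Subtype.val (hsf i j)
  obtain ⟨σ, hσ, huniq⟩ := S.existsUnique_gluing V _ hc
  refine ⟨⟨σ, fun y hy => ?_⟩, fun i => Subtype.ext (hσ i), fun τ hτ =>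
    Subtype.ext (huniq τ.1 fun i => congrArg Subtype.val (hτ i))⟩
  obtain ⟨i, hi⟩ := Opens.mem_iSup.mp hy
  rw [← TopCat.Presheaf.germ_res_apply S.obj (Opens.leSupr V i) y hi σ, hσ i]
  exact (sf i).2 y hi

/-- The subsheaf defined by stalkwise submodules. -/
noncomputable def toModule (M : Sub F) : X.Modules :=
  ⟨(presheafSub F M).toPresheafOfModules, isSheaf_presheafSub F M⟩

/-- Its inclusion. -/
noncomputable def toModuleι (M : Sub F) : toModule F M ⟶ F := ⟨(presheafSub F M).ι⟩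

instance (M : Sub F) : Mono (toModuleι F M) :=
  (Groth.Agent.QCohLib.mono_iff_app_injective _).mpr fun _ _ _ h => Subtype.ext h

variable {F}

lemma isQuasicoherent_toModule [F.IsQuasicoherent] {M : Sub F} (hM : GenOn M ⊤) :
    (toModule F M).IsQuasicoherent := by
  refine Groth.Agent.QCohLib.isQuasicoherent_of_sections (fun U f x hx => ?_) (fun U f s => ?_)
  · obtain ⟨n, hn⟩ := Groth.Agent.QCohLib.exists_pow_smul_eq_zero (M := F) U.2 f _ (X.basicOpen_le f) rfl
      x.1 (congrArg Subtype.val hx)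
    exact ⟨n, Subtype.ext hn⟩
  · let s' : Γ(F, X.basicOpen f) := s.1
    obtain ⟨n, φ, hφ⟩ := Groth.Agent.QCohLib.exists_res_eq_pow_smul (M := F) U.2 f _ (X.basicOpen_le f) rfl s'
    have hMU : GenOn M U.1 := by
      intro x hx
      obtain ⟨W, hxW, hW, -, T, hT⟩ := hM x (Opens.mem_top x)
      obtain ⟨g, hgU, hxg⟩ := hW.exists_basicOpen_le ⟨x, hx⟩ hxW
      classical
      refine ⟨X.basicOpen g, hxg, hW.basicOpen g, hgU,
        T.image (F.presheaf.map (homOfLE (X.basicOpen_le g)).op), fun y hy => ?_⟩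
      rw [Finset.coe_image, germSpan_res, hT y (X.basicOpen_le g hy)]
    obtain ⟨k, hk⟩ := exists_pow_germ_mem (F := F) le_rfl U.2.isCompact hMU f φ (fun y _ hg => by
      have := congrArg (F.presheaf.germ (X.basicOpen f) y hg) hφ
      rw [germ_smul, TopCat.Presheaf.germ_res_apply] at this
      rw [this]
      exact Submodule.smul_mem _ _ (show F.presheaf.germ _ y hg s' ∈ M y from s.2 y hg))
    refine ⟨k + n, ⟨f ^ k • φ, fun y hy => hk k le_rfl y hy⟩, Subtype.ext ?_⟩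
    change F.presheaf.map (homOfLE (X.basicOpen_le f)).op (f ^ k • φ) =
      (X.presheaf.map (homOfLE (X.basicOpen_le f)).op f) ^ (k + n) • s'
    rw [Scheme.Modules.map_smul, hφ, map_pow, smul_smul, ← pow_add]

lemma isFiniteType_toModule [F.IsQuasicoherent] {M : Sub F} (hM : GenOn M ⊤) :
    (toModule F M).IsFiniteType := by
  haveI := isQuasicoherent_toModule hM
  choose W hxW hW _ T hT using fun x : X => hM x (Opens.mem_top x)
  refine Groth.Agent.QCohLib.isFiniteType_of_affine_cover (toModule F M)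
    (fun x : X => ⟨W x, hW x⟩) (fun x => ⟨x, hxW x⟩) fun x => ?_
  let ι' : Γ(toModule F M, W x) →ₗ[Γ(X, W x)] Γ(F, W x) := (sectSub F M (W x)).subtype
  refine Module.Finite.iff_fg.mpr ?_ |> fun h : Module.Finite Γ(X, W x) (sectSub F M (W x)) => h
  have : sectSub F M (W x) = Submodule.span Γ(X, W x) (T x : Set Γ(F, W x)) := by
    refine le_antisymm (fun σ hσ => ?_) (Submodule.span_le.mpr fun t ht y hy => ?_)
    · obtain ⟨k, hk⟩ := exists_pow_smul_mem_span (hW x) 1 (T x : Set Γ(F, W x)) σ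
        (fun y hy _ => hT x y hy ▸ hσ y hy)
      rwa [one_pow, one_smul] at hk
    · rw [hT x y hy]
      exact Submodule.subset_span ⟨t, ht, rfl⟩
  rw [this]
  exact Submodule.fg_span (T x).finite_toSet

/-- A state of the transfinite extension. -/
structure State {L : Type v} [LinearOrder L] (V : L → X.Opens) (U : X.Opens) (M₀ : Sub F) where
  D : Set L
  lower : IsLowerSet D
  M : Sub F
  gen : GenOn M (U ⊔ ⨆ l ∈ D, V l)
  eq₀ : ∀ y ∈ U, M y = M₀ y

instance {L : Type v} [LinearOrder L] {V : L → X.Opens} {U : X.Opens} {M₀ : Sub F} :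
    Preorder (State V U M₀) where
  le a b := a.D ⊆ b.D ∧ ∀ y ∈ (U ⊔ ⨆ l ∈ a.D, V l : X.Opens), b.M y = a.M y
  le_refl a := ⟨subset_rfl, fun _ _ => rfl⟩
  le_trans a b c hab hbc := ⟨hab.1.trans hbc.1, fun y hy =>
    (hbc.2 y (sup_le_sup_left (biSup_mono hab.1) U hy)).trans (hab.2 y hy)⟩

/-- Transfinite extension along a well-ordered family of affine opens. -/
lemma exists_extend_wellOrdered [F.IsQuasicoherent] {L : Type v} [LinearOrder L] [WellFoundedLT L]
    (V : L → X.Opens) (hV : ∀ l, IsAffineOpen (V l)) (U : X.Opens) (hcov : U ⊔ ⨆ l, V l = ⊤)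
    (hc : ∀ l, IsCompact (((U ⊔ ⨆ m ∈ Set.Iio l, V m) ⊓ V l : X.Opens) : Set X))
    (M₀ : Sub F) (hM₀ : GenOn M₀ U) :
    ∃ M : Sub F, GenOn M ⊤ ∧ ∀ y ∈ U, M y = M₀ y := by
  classical
  let s₀ : State V U M₀ := ⟨∅, isLowerSet_empty, M₀, by simpa using hM₀, fun _ _ => rfl⟩
  obtain ⟨m, hm⟩ := zorn_le (α := State V U M₀) fun c hc' => by
    rcases c.eq_empty_or_nonempty with rfl | hne
    · exact ⟨s₀, fun a ha => ha.elim⟩
    let D : Set L := ⋃ a ∈ c, a.D
    let M : Sub F := fun y => if h : ∃ a ∈ c, y ∈ (U ⊔ ⨆ l ∈ a.D, V l : X.Opens) then h.choose.M y else ⊥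
    have hM : ∀ a ∈ c, ∀ y ∈ (U ⊔ ⨆ l ∈ a.D, V l : X.Opens), M y = a.M y := by
      intro a ha y hy
      have h : ∃ a ∈ c, y ∈ (U ⊔ ⨆ l ∈ a.D, V l : X.Opens) := ⟨a, ha, hy⟩
      simp only [M, dif_pos h]
      rcases hc'.total ha h.choose_spec.1 with hle | hle
      · exact hle.2 y hy
      · exact (hle.2 y h.choose_spec.2).symm
    obtain ⟨a₀, ha₀⟩ := hne
    refine ⟨⟨D, isLowerSet_iUnion₂ fun a _ => a.lower, M, ?_, fun y hy => ?_⟩, fun a ha =>
      ⟨Set.subset_biUnion_of_mem (u := fun a : State V U M₀ => a.D) ha, fun y hy => hM a ha y hy⟩⟩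
    · intro x hx
      obtain ⟨a, ha, hxa⟩ : ∃ a ∈ c, x ∈ (U ⊔ ⨆ l ∈ a.D, V l : X.Opens) := by
        rcases hx with hx | hx
        · exact ⟨a₀, ha₀, Or.inl hx⟩
        · obtain ⟨l, hl⟩ := Opens.mem_iSup.mp hx
          obtain ⟨hlD, hl⟩ := Opens.mem_iSup.mp hl
          obtain ⟨a, ha, hla⟩ := Set.mem_iUnion₂.mp hlD
          exact ⟨a, ha, Or.inr (Opens.mem_iSup.mpr ⟨l, Opens.mem_iSup.mpr ⟨hla, hl⟩⟩)⟩
      obtain ⟨W, hxW, hW, hWV, T, hT⟩ := (a.gen.congr (hM a ha)) x hxa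
      exact ⟨W, hxW, hW, hWV.trans (sup_le_sup_left (biSup_mono (Set.subset_biUnion_of_mem
        (u := fun a : State V U M₀ => a.D) ha)) U), T, hT⟩
    · exact (hM a₀ ha₀ y (Or.inl hy)).trans (a₀.eq₀ y hy)
  have hD : m.D = Set.univ := by
    by_contra hne
    obtain ⟨l, hl, hmin⟩ := WellFounded.has_min (wellFounded_lt (α := L)) (m.Dᶜ)
      (Set.nonempty_compl.mpr hne)
    have hD : m.D = Set.Iio l := by
      ext k
      refine ⟨fun hk => lt_of_not_ge fun hle => hl (m.lower hle hk), fun hk => ?_⟩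
      by_contra hk'
      exact hmin k hk' hk
    have hgen := m.gen
    rw [hD] at hgen
    obtain ⟨M', hM', heq⟩ := exists_extend_affine (hV l) (hc l) hgen
    let m' : State V U M₀ := ⟨Set.Iic l, isLowerSet_Iic l, M', by
      refine fun x hx => ?_
      have hle : (U ⊔ ⨆ k ∈ Set.Iic l, V k : X.Opens) = (U ⊔ ⨆ k ∈ Set.Iio l, V k) ⊔ V l := by
        rw [sup_assoc, ← Set.Iio_insert, iSup_insert, sup_comm (V l)]
      rw [hle] at hx ⊢
      exact hM' x hx, fun y hy => (heq y (Or.inl hy)).trans (m.eq₀ y hy)⟩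
    have hle : m ≤ m' := ⟨hD.trans_subset Set.Iio_subset_Iic_self, fun y hy => heq y (by rwa [hD] at hy)⟩
    exact hl ((hm hle).1 (Set.mem_Iic.mpr le_rfl))
  refine ⟨m.M, fun x _ => ?_, m.eq₀⟩
  have hx : x ∈ (U ⊔ ⨆ l ∈ m.D, V l : X.Opens) := by
    rw [hD]
    simp only [Set.mem_univ, iSup_pos, hcov]
    exact Opens.mem_top x
  obtain ⟨W, a, b, -, T, d⟩ := m.gen x hx
  exact ⟨W, a, b, le_top, T, d⟩

open Groth.Agent.InvBasic

/-- A function on `U` seen on `X`. -/
abbrev ringX {U : X.Opens} {W : (U : Scheme.{u}).Opens} (r : Γ((U : Scheme.{u}), W)) : Γ(X, U.ι ''ᵁ W) := r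

section

variable {U : X.Opens} {G : (U : Scheme.{u}).Modules} (i : G ⟶ F.restrict U.ι)

/-- The image in `F` of a section of `G`. -/
noncomputable def toX {W : (U : Scheme.{u}).Opens} (τ : Γ(G, W)) : Γ(F, U.ι ''ᵁ W) := i.app W τ

lemma toX_add {W : (U : Scheme.{u}).Opens} (a b : Γ(G, W)) : toX i (a + b) = toX i a + toX i b := map_add _ _ _

lemma toX_zero {W : (U : Scheme.{u}).Opens} : toX i (0 : Γ(G, W)) = 0 := map_zero _

lemma toX_smul {W : (U : Scheme.{u}).Opens} (r : Γ((U : Scheme.{u}), W)) (τ : Γ(G, W)) :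
    toX i (r • τ) = ringX r • toX i τ :=
  (Scheme.Modules.Hom.app_smul i r τ).trans (restrict_smul_eq F U W r _)

lemma toX_map {W W' : (U : Scheme.{u}).Opens} (h : W' ≤ W) (τ : Γ(G, W)) :
    toX i (G.presheaf.map (homOfLE h).op τ) = F.presheaf.map (homOfLE (U.ι.image_mono h)).op (toX i τ) :=
  Groth.Agent.QCohLib.app_map i h τ

/-- The stalkwise submodules spanned by a subsheaf `G` of `F|U`. -/
noncomputable def initial : Sub F :=
  fun y => Submodule.span _ {m | ∃ (W : (U : Scheme.{u}).Opens) (hy : y ∈ U.ι ''ᵁ W) (τ : Γ(G, W)),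
    m = F.presheaf.germ (U.ι ''ᵁ W) y hy (toX i τ)}

lemma toX_mem_span {W : (U : Scheme.{u}).Opens} (T : Set Γ(G, W))
    (σ : Γ(G, W)) (hσ : σ ∈ Submodule.span Γ((U : Scheme.{u}), W) T) :
    toX i σ ∈ Submodule.span Γ(X, U.ι ''ᵁ W) (toX i '' T) := by
  induction hσ using Submodule.span_induction with
  | mem m hm => exact Submodule.subset_span ⟨m, hm, rfl⟩
  | zero => rw [toX_zero]; exact zero_mem _
  | add p q _ _ hp hq => rw [toX_add]; exact add_mem hp hq
  | smul r p _ hp => rw [toX_smul]; exact Submodule.smul_mem _ _ hp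

lemma image_basicOpen_ringX {W : (U : Scheme.{u}).Opens} (a : Γ((U : Scheme.{u}), W)) :
    U.ι ''ᵁ ((U : Scheme.{u}).basicOpen a) = X.basicOpen (ringX a) := by
  rw [Scheme.image_basicOpen U.ι, show (U.ι.appIso W).inv a = ringX a from by rw [Scheme.Opens.ι_appIso]; rfl]

lemma initial_eq [G.IsQuasicoherent] {W : (U : Scheme.{u}).Opens} (hW : IsAffineOpen W) (T : Set Γ(G, W))
    (hT : Submodule.span Γ((U : Scheme.{u}), W) T = ⊤) (y : X) (hy : y ∈ U.ι ''ᵁ W) :
    initial i y = germSpan y hy (toX i '' T) := by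
  refine le_antisymm (Submodule.span_le.mpr ?_) (Submodule.span_le.mpr ?_)
  · rintro _ ⟨W₁, hy₁, τ, rfl⟩
    obtain ⟨z, hz, rfl⟩ := hy
    have hz₁ : z ∈ W₁ := by
      obtain ⟨z', hz', e⟩ := hy₁
      exact U.ι.isOpenEmbedding.injective e ▸ hz'
    have hz₁₂ : z ∈ W₁ ⊓ W := ⟨hz₁, hz⟩
    obtain ⟨a, σ, hza, e⟩ := Groth.Agent.QCohLib.exists_smul_eq_germ (M := G) hW z hz
      (G.presheaf.germ W₁ z hz₁ τ)
    rw [← TopCat.Presheaf.germ_res_apply G.presheaf (homOfLE (inf_le_left : W₁ ⊓ W ≤ W₁)) z hz₁₂,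
      ← TopCat.Presheaf.germ_res_apply G.presheaf (homOfLE (inf_le_right : W₁ ⊓ W ≤ W)) z hz₁₂ σ,
      ← TopCat.Presheaf.germ_res_apply (U : Scheme.{u}).presheaf (homOfLE (inf_le_right : W₁ ⊓ W ≤ W)) z hz₁₂ a,
      ← germ_smul G] at e
    obtain ⟨W₂, hz₂, k, k', e'⟩ := G.presheaf.germ_eq z _ _ _ _ e
    have h1 : toX i (G.presheaf.map (homOfLE k.le).op
          ((U : Scheme.{u}).presheaf.map (homOfLE (inf_le_right : W₁ ⊓ W ≤ W)).op a •
            G.presheaf.map (homOfLE (inf_le_left : W₁ ⊓ W ≤ W₁)).op τ)) =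
        toX i (G.presheaf.map (homOfLE k.le).op (G.presheaf.map (homOfLE (inf_le_right : W₁ ⊓ W ≤ W)).op σ)) :=
      congrArg (toX i) (by rw [show k' = k from Subsingleton.elim _ _] at e'; exact e')
    rw [toX_map, toX_map, toX_smul, toX_map, toX_map] at h1
    have hzW : U.ι z ∈ U.ι ''ᵁ W := ⟨z, hz, rfl⟩
    have hzW₁₂ : U.ι z ∈ U.ι ''ᵁ (W₁ ⊓ W) := ⟨z, hz₁₂, rfl⟩
    have hzW₂ : U.ι z ∈ U.ι ''ᵁ W₂ := ⟨z, hz₂, rfl⟩
    have h2 := congrArg (F.presheaf.germ (U.ι ''ᵁ W₂) (U.ι z) hzW₂) h1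
    rw [TopCat.Presheaf.germ_res_apply, TopCat.Presheaf.germ_res_apply, germ_smul,
      TopCat.Presheaf.germ_res_apply, TopCat.Presheaf.germ_res_apply] at h2
    have hr : X.presheaf.germ (U.ι ''ᵁ (W₁ ⊓ W)) (U.ι z) hzW₁₂
        (ringX ((U : Scheme.{u}).presheaf.map (homOfLE (inf_le_right : W₁ ⊓ W ≤ W)).op a)) =
        X.presheaf.germ (U.ι ''ᵁ W) (U.ι z) hzW (ringX a) :=
      TopCat.Presheaf.germ_res_apply X.presheaf (homOfLE (U.ι.image_mono inf_le_right)) _ hzW₁₂ _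
    rw [hr] at h2
    have hu : IsUnit (X.presheaf.germ (U.ι ''ᵁ W) (U.ι z) hzW (ringX a)) :=
      (X.mem_basicOpen _ _ hzW).mp ((image_basicOpen_ringX a).le ⟨z, hza, rfl⟩)
    refine (Submodule.smul_mem_iff_of_isUnit _ hu).mp ?_
    exact Set.mem_of_eq_of_mem h2 (germ_mem_of_mem_span _ (toX_mem_span i T σ (hT ▸ Submodule.mem_top)))
  · rintro _ ⟨_, ⟨t, -, rfl⟩, rfl⟩
    exact Submodule.subset_span ⟨W, hy, t, rfl⟩

lemma genOn_initial [G.IsQuasicoherent] (hG : G.IsFiniteType) : GenOn (initial i) U := by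
  classical
  intro x hx
  obtain ⟨W, hW, hxW, -⟩ := exists_isAffineOpen_mem_and_subset (X := (U : Scheme.{u}))
    (U := ⊤) (x := ⟨x, hx⟩) trivial
  obtain ⟨T, hT⟩ := (Groth.Agent.QCohLib.finite_sections G hG hW).fg_top
  refine ⟨U.ι ''ᵁ W, ⟨⟨x, hx⟩, hxW, rfl⟩, hW.image_of_isOpenImmersion U.ι, ι_image_le U W,
    T.image (toX i), fun y hy => ?_⟩
  rw [Finset.coe_image]
  exact initial_eq i hW _ hT y hy

/-- The map from `G` to the extended subsheaf. -/
noncomputable def lift (M : Sub F) (h : ∀ y ∈ U, initial i y ≤ M y) : G ⟶ (toModule F M).restrict U.ι :=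
  ⟨PresheafOfModules.homMk (M₁ := G.val) (M₂ := ((toModule F M).restrict U.ι).val)
    { app := fun W ↦ AddCommGrpCat.ofHom
        ({ toFun := fun τ => (⟨toX i τ, fun y hy =>
              h y (ι_image_le U W.unop hy) (Submodule.subset_span ⟨W.unop, hy, τ, rfl⟩)⟩ :
                sectSub F M (U.ι ''ᵁ W.unop))
           map_zero' := Subtype.ext (map_zero _)
           map_add' := fun a b => Subtype.ext (map_add _ _ _) } :
            Γ(G, W.unop) →+ Γ((toModule F M).restrict U.ι, W.unop))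
      naturality := fun {W W'} j ↦ by
        ext τ
        refine Subtype.ext ?_
        exact Groth.Agent.QCohLib.app_map i j.unop.le τ }
    (fun W r m ↦ by
      refine Eq.trans ?_ (restrict_smul_eq (toModule F M) U W.unop r _).symm
      refine Subtype.ext ?_
      exact toX_smul i r m)⟩

/-- If `M` agrees with `G` on `U`, the subsheaf restricts to `G`. -/
lemma exists_iso_restrict [F.IsQuasicoherent] [G.IsQuasicoherent] (hG : G.IsFiniteType) [Mono i] (M : Sub F)
    (h : ∀ y ∈ U, M y = initial i y) :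
    ∃ e : (toModule F M).restrict U.ι ≅ G,
      e.hom ≫ i = (Scheme.Modules.restrictFunctor U.ι).map (toModuleι F M) := by
  let l := lift i M fun y hy => (h y hy).ge
  have hl : l ≫ (Scheme.Modules.restrictFunctor U.ι).map (toModuleι F M) = i :=
    Scheme.Modules.hom_ext _ _ fun W => ConcreteCategory.hom_ext _ _ fun τ => rfl
  haveI : Mono l := mono_of_mono_fac hl
  haveI : Epi l := by
    rw [Groth.Agent.QCohLib.epi_iff_locally_surjective]
    intro W t x hxW
    obtain ⟨W₀, hW₀, hxW₀, hW₀W⟩ := exists_isAffineOpen_mem_and_subset (U := W) (x := x) hxW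
    obtain ⟨T, hT⟩ := (Groth.Agent.QCohLib.finite_sections G hG hW₀).fg_top
    let t' : Γ(F, U.ι ''ᵁ W) := t.1
    have ht' : F.presheaf.germ (U.ι ''ᵁ W) (U.ι x) ⟨x, hxW, rfl⟩ t' ∈ M (U.ι x) := t.2 _ _
    let t₀ : Γ(F, U.ι ''ᵁ W₀) := F.presheaf.map (homOfLE (U.ι.image_mono hW₀W)).op t'
    have hx₀ : U.ι x ∈ U.ι ''ᵁ W₀ := ⟨x, hxW₀, rfl⟩
    obtain ⟨a, hxa, hat⟩ := exists_smul_mem_span (hW₀.image_of_isOpenImmersion U.ι) hx₀
      (toX i '' (T : Set Γ(G, W₀))) t₀ (by
        rw [← initial_eq i hW₀ _ hT _ hx₀, ← h (U.ι x) x.2, TopCat.Presheaf.germ_res_apply]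
        exact ht')
    have hr : ∃ σ : Γ(G, W₀), toX i σ = a • t₀ := by
      generalize a • t₀ = m at hat ⊢
      induction hat using Submodule.span_induction with
      | mem m hm => obtain ⟨τ, -, rfl⟩ := hm; exact ⟨τ, rfl⟩
      | zero => exact ⟨0, toX_zero i⟩
      | add p q _ _ hp hq =>
        obtain ⟨σ, rfl⟩ := hp; obtain ⟨σ', rfl⟩ := hq
        exact ⟨σ + σ', toX_add i _ _⟩
      | smul r p _ hp =>
        obtain ⟨σ, rfl⟩ := hp
        exact ⟨(show Γ((U : Scheme.{u}), W₀) from r) • σ, toX_smul i _ σ⟩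
    obtain ⟨σ, hσ⟩ := hr
    let a' : Γ((U : Scheme.{u}), W₀) := a
    let W₂ := (U : Scheme.{u}).basicOpen a'
    have hW₂ : W₂ ≤ W₀ := (U : Scheme.{u}).basicOpen_le a'
    obtain ⟨w, hw⟩ : ∃ w : Γ((U : Scheme.{u}), W₂),
        w * (U : Scheme.{u}).presheaf.map (homOfLE hW₂).op a' = 1 :=
      ((U : Scheme.{u}).toRingedSpace.isUnit_res_basicOpen a').exists_left_inv
    refine ⟨W₂, hW₂.trans hW₀W, ⟨w • G.presheaf.map (homOfLE hW₂).op σ, Subtype.ext ?_⟩, ?_⟩
    · change toX i (w • G.presheaf.map (homOfLE hW₂).op σ) =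
        F.presheaf.map (homOfLE (U.ι.image_mono (hW₂.trans hW₀W))).op t'
      rw [toX_smul, toX_map, hσ, Scheme.Modules.map_smul, smul_smul, Groth.Agent.QCohLib.map_map]
      refine (congrArg (· • _) ?_).trans (one_smul _ _)
      exact hw
    · obtain ⟨z, hz, e⟩ : U.ι x ∈ U.ι ''ᵁ W₂ := (image_basicOpen_ringX a').ge hxa
      exact U.ι.isOpenEmbedding.injective e ▸ hz
  haveI : IsIso l := isIso_of_mono_of_epi l
  exact ⟨(asIso l).symm, by rw [Iso.symm_hom, asIso_inv, IsIso.inv_comp_eq, hl]⟩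

end

/-- Extension of a finite type quasi-coherent subsheaf along a well-ordered affine family. -/
theorem exists_subsheaf_extension [F.IsQuasicoherent] {L : Type v} [LinearOrder L] [WellFoundedLT L]
    (V : L → X.Opens) (hV : ∀ l, IsAffineOpen (V l)) (U : X.Opens) (hcov : U ⊔ ⨆ l, V l = ⊤)
    (hc : ∀ l, IsCompact (((U ⊔ ⨆ m ∈ Set.Iio l, V m) ⊓ V l : X.Opens) : Set X))
    {G : (U : Scheme.{u}).Modules} [G.IsQuasicoherent] (hG : G.IsFiniteType)
    (i : G ⟶ F.restrict U.ι) [Mono i] :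
    ∃ (G' : X.Modules) (i' : G' ⟶ F) (e : G'.restrict U.ι ≅ G), Mono i' ∧ G'.IsQuasicoherent ∧
      G'.IsFiniteType ∧ e.hom ≫ i = (Scheme.Modules.restrictFunctor U.ι).map i' := by
  obtain ⟨M, hM, hM₀⟩ := exists_extend_wellOrdered V hV U hcov hc (initial i) (genOn_initial i hG)
  obtain ⟨e, he⟩ := exists_iso_restrict i hG M hM₀
  exact ⟨toModule F M, toModuleι F M, e, inferInstance, isQuasicoherent_toModule hM,
    isFiniteType_toModule hM, he⟩

end Groth.Agent.SubSheafExt
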