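import Groth.Agent.QCohLib.Criterion
import Groth.Agent.QCohLib.StalkLoc

/-!
# Subsheaves of a quasi-coherent module given by submodules of the stalks

`GenOn F M V`: near every point of `V` the submodules `M y ⊆ F_y` are generated by the germs of
finitely many sections.
-/

set_option linter.style.haveILetI false

universe u

open AlgebraicGeometry CategoryTheory TopologicalSpace

namespace Groth.Agent.SubSheafExt

open Groth.Agent.QCohLib (mem_basicOpen_iff_notMem_primeIdealOf)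

variable {X : Scheme.{u}} {F : X.Modules}

lemma germ_smul (F : X.Modules) (U : X.Opens) (x : X) (hx : x ∈ U) (r : Γ(X, U)) (m : Γ(F, U)) :
    F.presheaf.germ U x hx (r • m) = X.presheaf.germ U x hx r • F.presheaf.germ U x hx m :=
  PresheafOfModules.germ_smul (R := X.presheaf)
    (show PresheafOfModules (X.presheaf ⋙ forget₂ CommRingCat RingCat) from F.val) x U hx r m

/-- The submodule of the stalk generated by germs of sections in `T`. -/
noncomputable def germSpan {W : X.Opens} (y : X) (hy : y ∈ W) (T : Set Γ(F, W)) :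
    Submodule (X.presheaf.stalk y) (F.presheaf.stalk y) :=
  Submodule.span _ (F.presheaf.germ W y hy '' T)

variable (F) in
/-- Stalkwise submodules of `F`. -/
abbrev Sub := ∀ y : X, Submodule (X.presheaf.stalk y) (F.presheaf.stalk y)

/-- Locally finitely generated on `V`, by sections on affine opens. -/
def GenOn (M : Sub F) (V : X.Opens) : Prop :=
  ∀ x ∈ V, ∃ (W : X.Opens) (_ : x ∈ W) (_ : IsAffineOpen W) (_ : W ≤ V) (T : Finset Γ(F, W)),
    ∀ (y : X) (hy : y ∈ W), M y = germSpan y hy (T : Set Γ(F, W))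

lemma germSpan_res {W W' : X.Opens} (h : W' ≤ W) (y : X) (hy : y ∈ W') (T : Set Γ(F, W)) :
    germSpan y hy (F.presheaf.map (homOfLE h).op '' T) = germSpan y (h hy) T := by
  unfold germSpan
  rw [Set.image_image]
  congr 1
  exact Set.image_congr fun t _ => TopCat.Presheaf.germ_res_apply F.presheaf (homOfLE h) y hy t

lemma GenOn.congr {M M' : Sub F} {V : X.Opens} (h : GenOn M V) (he : ∀ y ∈ V, M' y = M y) :
    GenOn M' V := fun x hx => by
  obtain ⟨W, hxW, hW, hWV, T, hT⟩ := h x hx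
  exact ⟨W, hxW, hW, hWV, T, fun y hy => (he y (hWV hy)).trans (hT y hy)⟩

lemma GenOn.sup {M : Sub F} {V V' : X.Opens} (h : GenOn M V) (h' : GenOn M V') : GenOn M (V ⊔ V') := by
  rintro x (hx | hx)
  · obtain ⟨W, a, b, c, T, d⟩ := h x hx
    exact ⟨W, a, b, c.trans le_sup_left, T, d⟩
  · obtain ⟨W, a, b, c, T, d⟩ := h' x hx
    exact ⟨W, a, b, c.trans le_sup_right, T, d⟩

/-- A germ in a span of germs is a germ in the span, up to a denominator. -/
lemma exists_smul_mem_span [F.IsQuasicoherent] {W : X.Opens} (hW : IsAffineOpen W) {y : X} (hy : y ∈ W)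
    (T : Set Γ(F, W)) (φ : Γ(F, W)) (h : F.presheaf.germ W y hy φ ∈ germSpan y hy T) :
    ∃ a : Γ(X, W), y ∈ X.basicOpen a ∧ a • φ ∈ Submodule.span Γ(X, W) T := by
  have key : ∀ m ∈ germSpan y hy T, ∃ a : Γ(X, W), y ∈ X.basicOpen a ∧
      ∃ τ ∈ Submodule.span Γ(X, W) T, X.presheaf.germ W y hy a • m = F.presheaf.germ W y hy τ := by
    intro m hm
    induction hm using Submodule.span_induction with
    | mem m hm =>
      obtain ⟨t, ht, rfl⟩ := hm
      exact ⟨1, by rw [Scheme.basicOpen_of_isUnit X isUnit_one]; exact hy, t, Submodule.subset_span ht,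
        by rw [map_one, one_smul]⟩
    | zero =>
      exact ⟨1, by rw [Scheme.basicOpen_of_isUnit X isUnit_one]; exact hy, 0, zero_mem _,
        by rw [smul_zero, map_zero]⟩
    | add m m' _ _ hm hm' =>
      obtain ⟨a, ha, τ, hτ, e⟩ := hm
      obtain ⟨a', ha', τ', hτ', e'⟩ := hm'
      refine ⟨a * a', by rw [X.basicOpen_mul]; exact ⟨ha, ha'⟩, a' • τ + a • τ',
        add_mem (Submodule.smul_mem _ _ hτ) (Submodule.smul_mem _ _ hτ'), ?_⟩
      rw [map_mul, smul_add, map_add, germ_smul, germ_smul, ← e, ← e', smul_smul, smul_smul]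
      congr 1
      rw [mul_comm]
    | smul c m _ hm =>
      obtain ⟨a, ha, τ, hτ, e⟩ := hm
      letI := TopCat.Presheaf.algebra_section_stalk X.presheaf (⟨y, hy⟩ : W)
      haveI := hW.isLocalization_stalk ⟨y, hy⟩
      obtain ⟨b, s, hbs⟩ := IsLocalization.exists_mk'_eq (hW.primeIdealOf ⟨y, hy⟩).asIdeal.primeCompl c
      have hs : X.presheaf.germ W y hy s.1 * c = X.presheaf.germ W y hy b := by
        rw [← hbs]; exact IsLocalization.mk'_spec' _ b s
      refine ⟨s.1 * a, by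
        rw [X.basicOpen_mul]
        exact ⟨(mem_basicOpen_iff_notMem_primeIdealOf hW hy _).mpr s.2, ha⟩,
        b • τ, Submodule.smul_mem _ _ hτ, ?_⟩
      rw [map_mul, smul_smul, mul_right_comm, hs, mul_smul, e, germ_smul]
  obtain ⟨a, ha, τ, hτ, e⟩ := key _ h
  obtain ⟨b, hb, hb0⟩ := (Groth.Agent.QCohLib.germ_eq_zero_iff hW y hy (a • φ - τ)).mp (by
    rw [map_sub, germ_smul, e, sub_self])
  refine ⟨b * a, by rw [X.basicOpen_mul]; exact ⟨hb, ha⟩, ?_⟩
  rw [mul_smul]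
  rw [smul_sub, sub_eq_zero] at hb0
  exact hb0 ▸ Submodule.smul_mem _ b hτ

lemma germ_mem_of_mem_span {W : X.Opens} {y : X} (hy : y ∈ W) {T : Set Γ(F, W)} {φ : Γ(F, W)}
    (h : φ ∈ Submodule.span Γ(X, W) T) : F.presheaf.germ W y hy φ ∈ germSpan y hy T := by
  induction h using Submodule.span_induction with
  | mem m hm => exact Submodule.subset_span ⟨m, hm, rfl⟩
  | zero => rw [map_zero]; exact zero_mem _
  | add a b _ _ ha hb => rw [map_add]; exact add_mem ha hb
  | smul r a _ ha => rw [germ_smul]; exact Submodule.smul_mem _ _ ha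

/-- On an affine open, a section lying in the span at all points of `D(g)` has `g ^ k • φ` in the span. -/
lemma exists_pow_smul_mem_span [F.IsQuasicoherent] {W : X.Opens} (hW : IsAffineOpen W) (g : Γ(X, W))
    (T : Set Γ(F, W)) (φ : Γ(F, W))
    (h : ∀ (y : X) (hy : y ∈ W), y ∈ X.basicOpen g → F.presheaf.germ W y hy φ ∈ germSpan y hy T) :
    ∃ k : ℕ, g ^ k • φ ∈ Submodule.span Γ(X, W) T := by
  let J : Ideal Γ(X, W) := (Submodule.span Γ(X, W) T).comap (LinearMap.toSpanSingleton Γ(X, W) Γ(F, W) φ)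
  suffices g ∈ J.radical by
    obtain ⟨k, hk⟩ := this
    exact ⟨k, hk⟩
  rw [Ideal.radical_eq_sInf, Submodule.mem_sInf]
  rintro q ⟨hJq, hq⟩
  by_contra hgq
  let y := hW.fromSpec ⟨q, hq⟩
  have hy : y ∈ W := by
    change y ∈ (W : Set X)
    rw [← hW.range_fromSpec]
    exact Set.mem_range_self _
  have hp : hW.primeIdealOf ⟨y, hy⟩ = ⟨q, hq⟩ :=
    hW.fromSpec.isOpenEmbedding.injective (hW.fromSpec_primeIdealOf _)
  obtain ⟨a, ha, hat⟩ := exists_smul_mem_span hW hy T φ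
    (h y hy ((mem_basicOpen_iff_notMem_primeIdealOf hW hy g).mpr (by rw [hp]; exact hgq)))
  have := (mem_basicOpen_iff_notMem_primeIdealOf hW hy a).mp ha
  rw [hp] at this
  exact this (hJq hat)

/-- The core lemma: clearing denominators against a stalkwise submodule on a quasi-compact open. -/
lemma exists_pow_germ_mem [F.IsQuasicoherent] {A V : X.Opens} (hVA : V ≤ A) (hc : IsCompact (V : Set X))
    {M : Sub F} (hM : GenOn M V) (g : Γ(X, A)) (φ : Γ(F, A))
    (h : ∀ (y : X) (hy : y ∈ V), y ∈ X.basicOpen g → F.presheaf.germ A y (hVA hy) φ ∈ M y) :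
    ∃ k : ℕ, ∀ n, k ≤ n → ∀ (y : X) (hy : y ∈ V), F.presheaf.germ A y (hVA hy) (g ^ n • φ) ∈ M y := by
  classical
  choose W hxW hW hWV T hT using hM
  obtain ⟨t, ht⟩ := hc.elim_finite_subcover (fun x : V => ((W x.1 x.2 : X.Opens) : Set X))
    (fun x => (W x.1 x.2).2) (fun x hx => Set.mem_iUnion.mpr ⟨⟨x, hx⟩, hxW x hx⟩)
  have hk : ∀ x : V, ∃ k : ℕ, ∀ (y : X) (hy : y ∈ W x.1 x.2),
      F.presheaf.germ A y (hVA (hWV x.1 x.2 hy)) (g ^ k • φ) ∈ M y := by
    intro x
    have hle : W x.1 x.2 ≤ A := (hWV x.1 x.2).trans hVA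
    obtain ⟨k, hk⟩ := exists_pow_smul_mem_span (hW x.1 x.2) (X.presheaf.map (homOfLE hle).op g)
      (T x.1 x.2 : Set _) (F.presheaf.map (homOfLE hle).op φ) (fun y hy hyg => by
        rw [← hT x.1 x.2 y hy, TopCat.Presheaf.germ_res_apply]
        rw [Scheme.basicOpen_res] at hyg
        exact h y (hWV x.1 x.2 hy) hyg.2)
    refine ⟨k, fun y hy => ?_⟩
    rw [hT x.1 x.2 y hy]
    have hm := germ_mem_of_mem_span hy hk
    rw [germ_smul, map_pow, TopCat.Presheaf.germ_res_apply, TopCat.Presheaf.germ_res_apply] at hm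
    rwa [germ_smul, map_pow]
  choose k hk using hk
  refine ⟨∑ x ∈ t, k x, fun n hn y hy => ?_⟩
  obtain ⟨x, hxt, hyx⟩ := Set.mem_iUnion₂.mp (ht hy)
  obtain ⟨m, rfl⟩ : ∃ m, n = m + k x :=
    ⟨n - k x, (Nat.sub_add_cancel ((Finset.single_le_sum (fun _ _ => Nat.zero_le _) hxt).trans hn)).symm⟩
  rw [pow_add, mul_smul, germ_smul]
  exact Submodule.smul_mem _ _ (hk x y hyx)

/-- Extend a locally finitely generated stalkwise submodule to an affine open. -/
lemma exists_extend_affine [F.IsQuasicoherent] {A V : X.Opens} (hA : IsAffineOpen A)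
    (hc : IsCompact ((V ⊓ A : X.Opens) : Set X)) {M : Sub F} (hM : GenOn M V) :
    ∃ M' : Sub F, GenOn M' (V ⊔ A) ∧ ∀ y ∈ V, M' y = M y := by
  classical
  have hMVA : GenOn M (V ⊓ A) := by
    intro x hx
    obtain ⟨W, hxW, hW, hWV, T, hT⟩ := hM x hx.1
    obtain ⟨g, hgA, hxg⟩ := hW.exists_basicOpen_le ⟨x, hx.2⟩ hxW
    refine ⟨X.basicOpen g, hxg, hW.basicOpen g, le_inf ((X.basicOpen_le g).trans hWV) hgA,
      T.image (F.presheaf.map (homOfLE (X.basicOpen_le g)).op), fun y hy => ?_⟩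
    rw [Finset.coe_image, germSpan_res, hT y (X.basicOpen_le g hy)]
  -- sections of `F` on `A` generating `M` near a point of `V ⊓ A`
  have hloc : ∀ x : ((V ⊓ A : X.Opens) : Set X), ∃ (g : Γ(X, A)) (Φ : Finset Γ(F, A)), x.1 ∈ X.basicOpen g ∧
      (∀ φ ∈ Φ, ∀ (y : X) (hy : y ∈ V ⊓ A), F.presheaf.germ A y hy.2 φ ∈ M y) ∧
      ∀ (y : X) (hy : y ∈ V ⊓ A), y ∈ X.basicOpen g → M y ≤ germSpan y hy.2 (Φ : Set Γ(F, A)) := by
    rintro ⟨x, hx⟩
    obtain ⟨W, hxW, hW, hWV, T, hT⟩ := hMVA x hx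
    obtain ⟨g, hgW, hxg⟩ := hA.exists_basicOpen_le ⟨x, hxW⟩ hx.2
    have hlift : ∀ t : T, ∃ (φ : Γ(F, A)) (n : ℕ), (∀ (y : X) (hy : y ∈ V ⊓ A),
        F.presheaf.germ A y hy.2 φ ∈ M y) ∧ ∀ (y : X) (hy : y ∈ V ⊓ A) (hg : y ∈ X.basicOpen g),
          F.presheaf.germ A y hy.2 φ = X.presheaf.germ A y hy.2 g ^ n • F.presheaf.germ W y (hgW hg) t.1 := by
      intro t
      obtain ⟨n, φ, hφ⟩ := Groth.Agent.QCohLib.exists_res_eq_pow_smul (M := F) hA g _ (X.basicOpen_le g) rfl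
        (F.presheaf.map (homOfLE hgW).op t.1)
      have hgerm : ∀ (y : X) (hy : y ∈ V ⊓ A) (hg : y ∈ X.basicOpen g), F.presheaf.germ A y hy.2 φ =
          X.presheaf.germ A y hy.2 g ^ n • F.presheaf.germ W y (hgW hg) t.1 := by
        intro y hy hg
        have := congrArg (F.presheaf.germ (X.basicOpen g) y hg) hφ
        rwa [germ_smul, map_pow, TopCat.Presheaf.germ_res_apply, TopCat.Presheaf.germ_res_apply,
          TopCat.Presheaf.germ_res_apply] at this
      obtain ⟨k, hk⟩ := exists_pow_germ_mem (A := A) inf_le_right hc hMVA g φ (fun y hy hg => by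
        rw [hgerm y hy hg, hT y (hgW hg)]
        exact Submodule.smul_mem _ _ (Submodule.subset_span ⟨t.1, t.2, rfl⟩))
      refine ⟨g ^ k • φ, k + n, fun y hy => hk k le_rfl y hy, fun y hy hg => ?_⟩
      rw [germ_smul, hgerm y hy hg, map_pow, smul_smul, ← pow_add]
    choose φ n hφ hgerm using hlift
    refine ⟨g, Finset.univ.image φ, hxg, fun ψ hψ => ?_, fun y hy hg => ?_⟩
    · obtain ⟨t, -, rfl⟩ := Finset.mem_image.mp hψ
      exact hφ t
    · rw [hT y (hgW hg)]
      refine Submodule.span_le.mpr ?_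
      rintro _ ⟨t, ht, rfl⟩
      have hu : IsUnit (X.presheaf.germ A y hy.2 g ^ n ⟨t, ht⟩) :=
        ((X.mem_basicOpen g y hy.2).mp hg).pow _
      refine (Submodule.smul_mem_iff_of_isUnit _ hu).mp ?_
      rw [← hgerm ⟨t, ht⟩ y hy hg]
      exact Submodule.subset_span ⟨φ ⟨t, ht⟩, Finset.mem_image_of_mem φ (Finset.mem_univ _), rfl⟩
  choose g Φ hxg hΦ hgen using hloc
  obtain ⟨t, ht⟩ := hc.elim_finite_subcover (fun x => ((X.basicOpen (g x) : X.Opens) : Set X))
    (fun x => (X.basicOpen (g x)).2) (fun x hx => Set.mem_iUnion.mpr ⟨⟨x, hx⟩, hxg ⟨x, hx⟩⟩)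
  let Ψ : Finset Γ(F, A) := t.biUnion Φ
  have hV : ∀ (y : X) (hy : y ∈ V ⊓ A), M y = germSpan y hy.2 (Ψ : Set Γ(F, A)) := by
    intro y hy
    refine le_antisymm ?_ (Submodule.span_le.mpr ?_)
    · obtain ⟨x, hxt, hyx⟩ := Set.mem_iUnion₂.mp (ht hy)
      refine (hgen x y hy hyx).trans (Submodule.span_mono (Set.image_mono ?_))
      exact Finset.coe_subset.mpr (Finset.subset_biUnion_of_mem Φ hxt)
    · rintro _ ⟨ψ, hψ, rfl⟩
      obtain ⟨x, -, hψx⟩ := Finset.mem_biUnion.mp hψ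
      exact hΦ x ψ hψx y hy
  let M' : Sub F := fun y => if hy : y ∈ A then germSpan y hy (Ψ : Set Γ(F, A)) else M y
  have hM' : ∀ y ∈ V, M' y = M y := fun y hy => by
    simp only [M']
    split_ifs with hA'
    · exact (hV y ⟨hy, hA'⟩).symm
    · rfl
  refine ⟨M', (hM.congr hM').sup fun x hx => ⟨A, hx, hA, le_rfl, Ψ, fun y hy => ?_⟩, hM'⟩
  simp only [M', dif_pos hy]

end Groth.Agent.SubSheafExt
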